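import Cfsg.Agent.Lib.BNPair.Bruhat

/-! A group generated by involutions satisfying the exchange condition is a Coxeter group. -/
set_option autoImplicit false

namespace CfsgLib.BNPair.Coxeter

variable {B : Type*} {W : Type*} [Group W]

/-- alternating word of length `k` -/
def alt : ℕ → B → B → List B
  | 0, _, _ => []
  | k + 1, a, b => a :: alt k b a

theorem length_alt : ∀ (k : ℕ) (a b : B), (alt k a b).length = k
  | 0, _, _ => rfl
  | k + 1, a, b => by simp [alt, length_alt k b a]

theorem take_alt : ∀ {j k : ℕ} (a b : B), j ≤ k → (alt k a b).take j = alt j a b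
  | 0, _, _, _, _ => by simp [alt]
  | j + 1, 0, _, _, h => absurd h (Nat.not_succ_le_zero j)
  | j + 1, k + 1, a, b, h => by simp [alt, take_alt b a (Nat.le_of_succ_le_succ h)]

theorem alt_mul_inv (s : B → W) (hs : ∀ i, s i * s i = 1) : ∀ (n : ℕ) (a b : B),
    ((alt n a b).map s).prod * (((alt n b a).map s).prod)⁻¹ = (s a * s b) ^ n
  | 0, _, _ => by simp [alt]
  | n + 1, a, b => by
    have hinv : (s b)⁻¹ = s b := inv_eq_of_mul_eq_one_right (hs b)
    have ha : (s a)⁻¹ = s a := inv_eq_of_mul_eq_one_right (hs a)
    have h := alt_mul_inv s hs n b a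
    have key : ∀ m : ℕ, s a * (s b * s a) ^ m * s b = (s a * s b) ^ (m + 1) := by
      intro m
      induction m with
      | zero => simp
      | succ m ih =>
        calc s a * (s b * s a) ^ (m + 1) * s b = (s a * (s b * s a) ^ m * s b) * (s a * s b) := by
              rw [pow_succ]; simp [mul_assoc]
          _ = _ := by rw [ih, ← pow_succ]
    simp only [alt, List.map_cons, List.prod_cons, mul_inv_rev, hinv]
    rw [← key n, ← h]
    simp [mul_assoc]

theorem alt_prod_eq_iff (s : B → W) (hs : ∀ i, s i * s i = 1) (n : ℕ) (a b : B) :
    ((alt n a b).map s).prod = ((alt n b a).map s).prod ↔ (s a * s b) ^ n = 1 := by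
  rw [← alt_mul_inv s hs, mul_inv_eq_one]

/-- the exchange condition for a length function -/
structure Exchange (s : B → W) : Prop where
  sq : ∀ i, s i * s i = 1
  gen : ∀ w : W, ∃ l : List B, (l.map s).prod = w
  exchange : ∀ (l : List B) (i : B), (∀ m : List B, (m.map s).prod = (l.map s).prod → l.length ≤ m.length) →
    (∃ m : List B, (m.map s).prod = s i * (l.map s).prod ∧ m.length ≤ l.length) →
    ∃ p c : List B, ∃ e : B, l = p ++ e :: c ∧ ((p ++ c).map s).prod = s i * (l.map s).prod

variable {M : CoxeterMatrix B} {s : B → W}

/-- a shortest word -/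
def Reduced (s : B → W) (l : List B) : Prop := ∀ m : List B, (m.map s).prod = (l.map s).prod → l.length ≤ m.length

/-- the element of the Coxeter group -/
def F (M : CoxeterMatrix B) (l : List B) : M.Group := (l.map M.simple).prod

theorem simple_sq (M : CoxeterMatrix B) (i : B) : M.simple i * M.simple i = 1 :=
  M.toCoxeterSystem.simple_mul_simple_self i

theorem matsumoto (h : Exchange s) (hM : ∀ i j n, (s i * s j) ^ n = 1 → M i j ∣ n) :
    ∀ (n : ℕ) (l l' : List B), l.length = n → Reduced s l → Reduced s l' →
      (l.map s).prod = (l'.map s).prod → F M l = F M l' := by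
  intro n
  induction n with
  | zero =>
    intro l l' hl hr hr' he
    have := hr' l he
    rw [List.length_eq_zero_iff.1 hl, List.length_eq_zero_iff.1 (show l'.length = 0 by omega)]
  | succ n ih =>
    intro l l' hl hr hr' he
    have hlen : l'.length = n + 1 := by have := hr l' he.symm; have := hr' l he; omega
    set w := (l.map s).prod with hw
    have hred : ∀ L : List B, (L.map s).prod = w → L.length = n + 1 → Reduced s L := fun L hL hlL m hm => by
      have := hr m (hm.trans hL); omega
    have hmin : ∀ L : List B, Reduced s L → (L.map s).prod = w → L.length = n + 1 := fun L hL hLw => by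
      have := hr L hLw; have := hL l hLw.symm; omega
    have same : ∀ (a : B) (x y : List B), x.length = n → y.length = n → ((a :: x).map s).prod = w →
        ((a :: y).map s).prod = w → F M (a :: x) = F M (a :: y) := by
      intro a x y hx hy hxw hyw
      have hxy : (x.map s).prod = (y.map s).prod := by
        simpa using hxw.trans hyw.symm
      have hrx : Reduced s x := fun m hm => by
        have := hr (a :: m) (by rw [List.map_cons, List.prod_cons, hm, ← List.prod_cons, ← List.map_cons]; exact hxw.trans hw)
        simp at this; omega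
      have hry : Reduced s y := fun m hm => by
        have := hr (a :: m) (by rw [List.map_cons, List.prod_cons, hm, ← List.prod_cons, ← List.map_cons]; exact hyw.trans hw)
        simp at this; omega
      simp only [F, List.map_cons, List.prod_cons]
      congr 1
      exact ih x y hx hrx hry hxy
    obtain ⟨s₁, u, rfl⟩ : ∃ a u, l = a :: u := List.exists_cons_of_length_eq_add_one hl
    obtain ⟨t₁, v, rfl⟩ : ∃ a u, l' = a :: u := List.exists_cons_of_length_eq_add_one hlen
    simp only [List.length_cons] at hl hlen
    by_contra hne
    have key : ∀ k : ℕ, ∃ a b x, ((a = s₁ ∧ b = t₁) ∨ (a = t₁ ∧ b = s₁)) ∧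
        ((alt (k + 1) a b ++ x).map s).prod = w ∧ (alt (k + 1) a b ++ x).length = n + 1 := by
      intro k
      induction k with
      | zero => exact ⟨s₁, t₁, u, Or.inl ⟨rfl, rfl⟩, by simp [alt, hw], by simp [alt]; omega⟩
      | succ k ihk =>
        obtain ⟨a, b, x, hab, hL, hLlen⟩ := ihk
        set L := alt (k + 1) a b ++ x with hLdef
        obtain ⟨y, hy, hyl⟩ : ∃ y : List B, ((b :: y).map s).prod = w ∧ y.length = n := by
          rcases hab with ⟨-, rfl⟩ | ⟨-, rfl⟩
          · exact ⟨v, he.symm, by omega⟩
          · exact ⟨u, hw.symm, by omega⟩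
        have hby : s b * w = (y.map s).prod := by
          rw [← hy, List.map_cons, List.prod_cons, ← mul_assoc, h.sq, one_mul]
        obtain ⟨p, c, e, hpc, hpe⟩ := h.exchange L b (hred L hL hLlen) ⟨y, by rw [hL, hby], by omega⟩
        have hpclen : (p ++ c).length = n := by
          have := congrArg List.length hpc
          simp at this ⊢; omega
        have hbL : ((b :: (p ++ c)).map s).prod = w := by
          rw [List.map_cons, List.prod_cons, hpe, ← mul_assoc, h.sq, one_mul, hL]
        by_cases hpk : k + 1 ≤ p.length
        · refine ⟨b, a, p.drop (k + 1) ++ c, hab.symm.imp (fun h => ⟨h.2, h.1⟩) (fun h => ⟨h.2, h.1⟩), ?_⟩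
          have htake : p.take (k + 1) = alt (k + 1) a b := by
            have e1 := congrArg (List.take (k + 1)) hpc
            rw [hLdef, List.take_append_of_le_length (by rw [length_alt]), take_alt a b le_rfl,
              List.take_append_of_le_length hpk] at e1
            exact e1.symm
          have hp : p = alt (k + 1) a b ++ p.drop (k + 1) := by rw [← htake, List.take_append_drop]
          have e2 : alt (k + 2) b a ++ (p.drop (k + 1) ++ c) = b :: (p ++ c) := by
            show b :: alt (k + 1) a b ++ _ = _
            rw [List.cons_append, ← List.append_assoc, ← hp]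
          rw [e2]
          exact ⟨hbL, by rw [List.length_cons, hpclen]⟩
        · exfalso
          set j := p.length with hj
          have hpe' : p ++ [e] = alt (j + 1) a b := by
            have e1 := congrArg (List.take (j + 1)) hpc
            rw [hLdef, List.take_append_of_le_length (by rw [length_alt]; omega), take_alt a b (by omega),
              show p ++ e :: c = (p ++ [e]) ++ c by simp, List.take_append_of_le_length (by simp [hj]),
              List.take_of_length_le (by simp [hj])] at e1
            exact e1.symm
          have hp : p = alt j a b := by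
            have := congrArg (List.take j) hpe'
            rwa [List.take_append_of_le_length le_rfl, List.take_of_length_le le_rfl, take_alt a b (by omega)] at this
          have hb : b :: (p ++ c) = alt (j + 1) b a ++ c := by
            show _ = b :: alt j a b ++ c
            rw [← hp, List.cons_append]
          have ha : L = alt (j + 1) a b ++ c := by rw [← hpe', hpc]; simp
          have hW : ((alt (j + 1) a b).map s).prod = ((alt (j + 1) b a).map s).prod := by
            have e1 := hL.trans hbL.symm
            rw [hb, ha, List.map_append, List.map_append, List.prod_append, List.prod_append] at e1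
            exact mul_right_cancel e1
          obtain ⟨d, hd⟩ := hM a b _ ((alt_prod_eq_iff s h.sq _ a b).1 hW)
          have hG : ((alt (j + 1) a b).map M.simple).prod = ((alt (j + 1) b a).map M.simple).prod := by
            rw [alt_prod_eq_iff M.simple (simple_sq M), hd, pow_mul,
              show (M.simple a * M.simple b) ^ M a b = 1 from M.toCoxeterSystem.simple_mul_simple_pow a b, one_pow]
          have hFL : F M L = F M (b :: (p ++ c)) := by
            simp only [F]; rw [hb, ha]; simp only [List.map_append, List.prod_append]; rw [hG]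
          have hcls : ∀ p' q' : List B, p'.length = n → q'.length = n → ∀ a₀ b₀,
              ((a₀ :: p').map s).prod = w → ((b₀ :: q').map s).prod = w → a₀ = s₁ → b₀ = t₁ →
              F M (a₀ :: p') ≠ F M (b₀ :: q') := by
            intro p' q' hp' hq' a₀ b₀ hpw hqw ha₀ hb₀ e'
            subst ha₀; subst hb₀
            exact hne ((same _ u p' (by omega) hp' hw.symm hpw).trans
              (e'.trans (same _ q' v hq' (by omega) hqw he.symm)))
          have hLc : L = a :: (alt k b a ++ x) := rfl
          have hLl : (alt k b a ++ x).length = n := by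
            have := hLlen; rw [hLc, List.length_cons] at this; omega
          rw [hLc] at hFL hL
          rcases hab with ⟨ea, eb⟩ | ⟨ea, eb⟩
          · exact hcls _ _ hLl hpclen a b hL hbL ea eb hFL
          · exact hcls _ _ hpclen hLl b a hbL hL eb ea hFL.symm
    obtain ⟨a, b, x, -, -, hlen'⟩ := key (n + 1)
    simp [length_alt] at hlen'
    omega

theorem exists_reduced (h : Exchange s) (hM : ∀ i j n, (s i * s j) ^ n = 1 → M i j ∣ n) :
    ∀ l : List B, ∃ m : List B, Reduced s m ∧ (m.map s).prod = (l.map s).prod ∧ F M m = F M l
  | [] => ⟨[], fun m _ => Nat.zero_le _, rfl, rfl⟩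
  | a :: l => by
    obtain ⟨m, hm, hmw, hmF⟩ := exists_reduced h hM l
    by_cases hr : Reduced s (a :: m)
    · exact ⟨a :: m, hr, by simp [hmw], by simp only [F] at hmF ⊢; simp [hmF]⟩
    · unfold Reduced at hr
      push Not at hr
      obtain ⟨x, hx, hxl⟩ := hr
      simp only [List.map_cons, List.prod_cons, List.length_cons] at hx hxl
      obtain ⟨p, c, e, hpc, hpe⟩ := h.exchange m a hm ⟨x, hx, by omega⟩
      have hlen : (p ++ c).length + 1 = m.length := by rw [hpc]; simp; omega
      have hr' : Reduced s (p ++ c) := fun y hy => by
        have := hm (a :: y) (by rw [List.map_cons, List.prod_cons, hy, hpe, ← mul_assoc, h.sq, one_mul])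
        simp at this; omega
      refine ⟨p ++ c, hr', by rw [hpe, List.map_cons, List.prod_cons, hmw], ?_⟩
      have e1 : ((a :: (p ++ c)).map s).prod = (m.map s).prod := by
        rw [List.map_cons, List.prod_cons, hpe, ← mul_assoc, h.sq, one_mul]
      have hF := matsumoto h hM m.length (a :: (p ++ c)) m (by rw [List.length_cons]; omega)
        (fun y hy => by have := hm y (hy.trans e1); rw [List.length_cons]; omega) hm e1
      simp only [F, List.map_cons, List.prod_cons] at hF hmF ⊢
      rw [← hmF, ← hF, ← mul_assoc, simple_sq, one_mul]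

/-- the natural map from the Coxeter group -/
noncomputable def hom (hpow : ∀ i j, (s i * s j) ^ M i j = 1) : M.Group →* W :=
  M.toCoxeterSystem.lift ⟨s, hpow⟩

theorem hom_simple (hpow : ∀ i j, (s i * s j) ^ M i j = 1) (i : B) : hom hpow (M.simple i) = s i :=
  M.toCoxeterSystem.lift_apply_simple hpow i

theorem hom_F (hpow : ∀ i j, (s i * s j) ^ M i j = 1) (l : List B) : hom hpow (F M l) = (l.map s).prod := by
  induction l with
  | nil => simp [F]
  | cons a l ih => simp only [F, List.map_cons, List.prod_cons, map_mul] at ih ⊢; rw [ih, hom_simple]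

theorem bijective (h : Exchange s) (hpow : ∀ i j, (s i * s j) ^ M i j = 1)
    (hM : ∀ i j n, (s i * s j) ^ n = 1 → M i j ∣ n) : Function.Bijective (hom hpow) := by
  refine ⟨?_, fun w => ?_⟩
  · rw [injective_iff_map_eq_one]
    intro g hg
    obtain ⟨l, hl⟩ := M.toCoxeterSystem.wordProd_surjective g
    have hl' : F M l = g := hl
    obtain ⟨m, hm, hmw, hmF⟩ := exists_reduced h hM l
    have : (m.map s).prod = 1 := by rw [hmw, ← hom_F hpow, hl']; exact hg
    have hm0 := hm [] (by simpa using this.symm)
    rw [List.eq_nil_of_length_eq_zero (Nat.le_zero.1 hm0)] at hmF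
    rw [← hl', ← hmF]; rfl
  · obtain ⟨l, hl⟩ := h.gen w
    exact ⟨F M l, by rw [hom_F, hl]⟩

/-- the Coxeter system -/
noncomputable def system (h : Exchange s) (hpow : ∀ i j, (s i * s j) ^ M i j = 1)
    (hM : ∀ i j n, (s i * s j) ^ n = 1 → M i j ∣ n) : CoxeterSystem M W :=
  ⟨(MulEquiv.ofBijective (hom hpow) (bijective h hpow hM)).symm⟩

theorem system_simple (h : Exchange s) (hpow : ∀ i j, (s i * s j) ^ M i j = 1)
    (hM : ∀ i j n, (s i * s j) ^ n = 1 → M i j ∣ n) (i : B) : (system h hpow hM).simple i = s i :=
  hom_simple hpow i

open Cfsg CfsgLib.BNPair.Bruhat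

/-- A (B, N)-pair satisfies the exchange condition. -/
theorem exchange_bnPair {G : Type*} [Group G] (P : Cfsg.BNPair G) : Exchange (simp_ P) where
  sq := simp_mul_self P
  gen w := by obtain ⟨l, hl⟩ := word_surjective P w; exact ⟨l, hl⟩
  exchange l i hr hd := by
    obtain ⟨m, hm, hml⟩ := hd
    have hlen : len P (word P l) = l.length := by
      refine le_antisymm (len_le P rfl) ?_
      obtain ⟨r, hr1, hr2⟩ := Bruhat.exists_reduced P (word P l)
      rw [← hr1]; exact hr r hr2
    have h1 : len P (simp_ P i * word P l) ≤ l.length := (len_le P (l := m) hm).trans hml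
    have h2 := len_simp_mul_ne P i (word P l)
    obtain ⟨p, c, e, h3, h4⟩ := exchange P l i hlen (by omega)
    exact ⟨p, c, e, h3, h4.symm⟩

/-- the Coxeter matrix of a (B, N)-pair -/
noncomputable def matrix {G : Type*} [Group G] (P : Cfsg.BNPair G) : CoxeterMatrix P.S where
  M i j := orderOf (simp_ P i * simp_ P j)
  isSymm := by
    ext i j
    show orderOf (simp_ P j * simp_ P i) = orderOf (simp_ P i * simp_ P j)
    rw [← orderOf_inv, mul_inv_rev, simp_inv, simp_inv]
  diagonal i := by rw [simp_mul_self, orderOf_one]
  off_diagonal i j hij h := hij (simp_injective P (by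
    have := orderOf_eq_one_iff.1 h
    rw [← simp_inv P j]; exact eq_inv_of_mul_eq_one_left this))

theorem exists_system {G : Type*} [Group G] (P : Cfsg.BNPair G) :
    ∃ (M : CoxeterMatrix P.S) (cs : CoxeterSystem M (Bruhat.W P)), ∀ s : P.S, cs.simple s = simp_ P s :=
  ⟨matrix P, system (exchange_bnPair P) (fun i j => pow_orderOf_eq_one _) (fun _ _ _ => orderOf_dvd_of_pow_eq_one),
    system_simple _ _ _⟩

end CfsgLib.BNPair.Coxeter
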